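import Mathlib
import Cfsg.Prelude.Def_GeometricClasses
import Cfsg.Agent.Lib.Helper95.TransvectionGen

set_option autoImplicit false
set_option linter.unusedSectionVars false

/-! Basic facts for the maximality of subfield subgroups of `SL_n`: rational vectors, transvection
identities. -/

namespace Cfsg.Agent.Lib.Helper48.Subfield

open scoped MatrixGroups Matrix
open Cfsg.Agent.Lib.Helper95

variable {ι : Type} [Fintype ι] [DecidableEq ι] {F : Type*} [Field F]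

/-- a vector with all entries in the subfield `F₀` -/
def Rat (F₀ : Subfield F) (x : ι → F) : Prop := ∀ i, x i ∈ F₀

theorem Rat.add {F₀ : Subfield F} {x y : ι → F} (hx : Rat F₀ x) (hy : Rat F₀ y) : Rat F₀ (x + y) :=
  fun i => F₀.add_mem (hx i) (hy i)

theorem Rat.neg {F₀ : Subfield F} {x : ι → F} (hx : Rat F₀ x) : Rat F₀ (-x) :=
  fun i => F₀.neg_mem (hx i)

theorem Rat.sub {F₀ : Subfield F} {x y : ι → F} (hx : Rat F₀ x) (hy : Rat F₀ y) : Rat F₀ (x - y) :=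
  fun i => F₀.sub_mem (hx i) (hy i)

theorem Rat.smul {F₀ : Subfield F} {c : F} (hc : c ∈ F₀) {x : ι → F} (hx : Rat F₀ x) :
    Rat F₀ (c • x) :=
  fun i => F₀.mul_mem hc (hx i)

theorem Rat.zero (F₀ : Subfield F) : Rat F₀ (0 : ι → F) := fun _ => F₀.zero_mem

theorem Rat.single (F₀ : Subfield F) (i : ι) {c : F} (hc : c ∈ F₀) :
    Rat F₀ (Pi.single i c : ι → F) := by
  intro j
  by_cases h : j = i
  · subst h; simpa using hc
  · simpa [Pi.single_apply, h] using F₀.zero_mem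

theorem Rat.dot {F₀ : Subfield F} {x y : ι → F} (hx : Rat F₀ x) (hy : Rat F₀ y) :
    x ⬝ᵥ y ∈ F₀ := by
  unfold dotProduct
  exact F₀.sum_mem (fun i _ => F₀.mul_mem (hx i) (hy i))

/-! ### transvection identities -/

theorem tvMat_eq_iff_mulVec (A B : Matrix ι ι F) (h : ∀ x, A *ᵥ x = B *ᵥ x) : A = B := by
  ext i j
  have := congrFun (h (Pi.single j 1)) i
  simpa using this

theorem tvGL_one_of_zero_left (v : ι → F) (h : (0 : ι → F) ⬝ᵥ v = 0) : tvGL 0 v h = 1 := by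
  apply Units.ext
  simp only [tvGL_val, Units.val_one]
  unfold tvMat
  ext i j
  simp [Matrix.vecMulVec]

theorem tvGL_one_of_zero_right (φ : ι → F) (h : φ ⬝ᵥ (0 : ι → F) = 0) : tvGL φ 0 h = 1 := by
  apply Units.ext
  simp only [tvGL_val, Units.val_one]
  exact tvMat_zero_right φ

/-- product of two transvections with the same centre -/
theorem tvGL_mul_same (φ φ' v : ι → F) (h : φ ⬝ᵥ v = 0) (h' : φ' ⬝ᵥ v = 0)
    (h'' : (φ + φ') ⬝ᵥ v = 0) : tvGL φ v h * tvGL φ' v h' = tvGL (φ + φ') v h'' := by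
  apply Units.ext
  simp only [Units.val_mul, tvGL_val]
  apply tvMat_eq_iff_mulVec
  intro x
  rw [← Matrix.mulVec_mulVec, tvMat_mulVec, tvMat_mulVec, tvMat_mulVec]
  rw [dotProduct_add, dotProduct_smul, h, add_dotProduct]
  simp only [smul_eq_mul, mul_zero, add_zero]
  rw [add_smul, add_assoc, add_comm ((φ' ⬝ᵥ x) • v)]

theorem tvGL_inv (φ v : ι → F) (h : φ ⬝ᵥ v = 0) (h' : (-φ) ⬝ᵥ v = 0) :
    (tvGL φ v h)⁻¹ = tvGL (-φ) v h' := by
  rw [inv_eq_iff_mul_eq_one, tvGL_mul_same φ (-φ) v h h' (by simp)]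
  have : φ + -φ = 0 := by simp
  apply Units.ext
  simp only [tvGL_val, Units.val_one, this]
  unfold tvMat
  ext i j
  simp [Matrix.vecMulVec]

/-- the commutator identity: if `η ⬝ᵥ u = 0` then
`T(u,ψ) T(w,η) = T(u,(ψ·w)η) T(w,η) T(u,ψ)`. -/
theorem tvGL_comm_formula (ψ u η w : ι → F) (hu : ψ ⬝ᵥ u = 0) (hw : η ⬝ᵥ w = 0)
    (hηu : η ⬝ᵥ u = 0) (h' : ((ψ ⬝ᵥ w) • η) ⬝ᵥ u = 0) :
    tvGL ψ u hu * tvGL η w hw = tvGL ((ψ ⬝ᵥ w) • η) u h' * (tvGL η w hw * tvGL ψ u hu) := by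
  apply Units.ext
  simp only [Units.val_mul, tvGL_val]
  apply tvMat_eq_iff_mulVec
  intro x
  simp only [← Matrix.mulVec_mulVec, tvMat_mulVec, dotProduct_add, dotProduct_smul, smul_dotProduct,
    hu, hw, hηu, smul_eq_mul, mul_zero, add_zero, zero_mul]
  ext i
  simp only [Pi.add_apply, Pi.smul_apply, smul_eq_mul]
  ring

/-- consequence: the commutator lies in any subgroup containing both transvections -/
theorem tvGL_comm_mem (K : Subgroup (GL ι F)) (ψ u η w : ι → F) (hu : ψ ⬝ᵥ u = 0)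
    (hw : η ⬝ᵥ w = 0) (hηu : η ⬝ᵥ u = 0) (h' : ((ψ ⬝ᵥ w) • η) ⬝ᵥ u = 0)
    (h1 : tvGL ψ u hu ∈ K) (h2 : tvGL η w hw ∈ K) : tvGL ((ψ ⬝ᵥ w) • η) u h' ∈ K := by
  have key := tvGL_comm_formula ψ u η w hu hw hηu h'
  have : tvGL ((ψ ⬝ᵥ w) • η) u h' =
      tvGL ψ u hu * tvGL η w hw * (tvGL η w hw * tvGL ψ u hu)⁻¹ := by
    rw [key]; group
  rw [this]
  exact K.mul_mem (K.mul_mem h1 h2) (K.inv_mem (K.mul_mem h2 h1))

/-- moving a scalar between centre and axis -/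
theorem tvGL_smul_swap (φ v : ι → F) (c : F) (h : φ ⬝ᵥ (c • v) = 0) (h' : (c • φ) ⬝ᵥ v = 0) :
    tvGL φ (c • v) h = tvGL (c • φ) v h' := tvGL_smul_right φ v c h h'

/-- if `v ≠ 0` the axis functional of a transvection with centre `v` is determined -/
theorem tvGL_axis_inj (φ φ' v : ι → F) (h : φ ⬝ᵥ v = 0) (h' : φ' ⬝ᵥ v = 0) (hv : v ≠ 0)
    (he : tvGL φ v h = tvGL φ' v h') : φ = φ' := by
  have h1 : tvMat φ v = tvMat φ' v := by
    have := congrArg (fun g : GL ι F => (g : Matrix ι ι F)) he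
    simpa using this
  obtain ⟨i, hi⟩ : ∃ i, v i ≠ 0 := by
    by_contra hcon
    push_neg at hcon
    exact hv (funext hcon)
  funext j
  have := congrFun (congrFun h1 i) j
  unfold tvMat at this
  simp only [Matrix.add_apply, Matrix.vecMulVec_apply, add_right_inj] at this
  exact mul_left_cancel₀ hi this

end Cfsg.Agent.Lib.Helper48.Subfield
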