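import Mathlib
import Cfsg.Prelude.Def_GeometricClasses
import Cfsg.Agent.Lib.Helper48.Subfield.Basic

set_option autoImplicit false
set_option linter.unusedSectionVars false

/-! The rational structure: matrices over the subfield `F₀`, the subfield subgroup. -/

namespace Cfsg.Agent.Lib.Helper48.Subfield

open scoped MatrixGroups Matrix
open Cfsg.Agent.Lib.Helper95

variable {ι : Type} [Fintype ι] [DecidableEq ι] {F : Type*} [Field F]

/-- a matrix with all entries in `F₀` -/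
def RatMat (F₀ : Subfield F) (M : Matrix ι ι F) : Prop := ∀ i j, M i j ∈ F₀

theorem RatMat.mul {F₀ : Subfield F} {M N : Matrix ι ι F} (hM : RatMat F₀ M) (hN : RatMat F₀ N) :
    RatMat F₀ (M * N) := by
  intro i j
  rw [Matrix.mul_apply]
  exact F₀.sum_mem (fun k _ => F₀.mul_mem (hM i k) (hN k j))

theorem RatMat.one (F₀ : Subfield F) : RatMat F₀ (1 : Matrix ι ι F) := by
  intro i j
  by_cases h : i = j
  · subst h; simpa using F₀.one_mem
  · simpa [Matrix.one_apply_ne h] using F₀.zero_mem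

theorem RatMat.mulVec {F₀ : Subfield F} {M : Matrix ι ι F} (hM : RatMat F₀ M) {x : ι → F}
    (hx : Rat F₀ x) : Rat F₀ (M *ᵥ x) := by
  intro i
  unfold Matrix.mulVec dotProduct
  exact F₀.sum_mem (fun k _ => F₀.mul_mem (hM i k) (hx k))

theorem RatMat.vecMul {F₀ : Subfield F} {M : Matrix ι ι F} (hM : RatMat F₀ M) {x : ι → F}
    (hx : Rat F₀ x) : Rat F₀ (x ᵥ* M) := by
  intro i
  unfold Matrix.vecMul dotProduct
  exact F₀.sum_mem (fun k _ => F₀.mul_mem (hx k) (hM k i))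

/-- the group of rational invertible matrices -/
def G0 (F₀ : Subfield F) : Subgroup (GL ι F) :=
  (Matrix.GeneralLinearGroup.map (n := ι) (F₀.subtype : F₀ →+* F)).range

theorem ratMat_of_mem_G0 {F₀ : Subfield F} {g : GL ι F} (hg : g ∈ G0 (ι := ι) F₀) :
    RatMat F₀ (g : Matrix ι ι F) := by
  obtain ⟨g₀, rfl⟩ := hg
  intro i j
  rw [Matrix.GeneralLinearGroup.map_apply]
  exact (g₀ i j).2

theorem ratMat_inv_of_mem_G0 {F₀ : Subfield F} {g : GL ι F} (hg : g ∈ G0 (ι := ι) F₀) :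
    RatMat F₀ ((g⁻¹ : GL ι F) : Matrix ι ι F) :=
  ratMat_of_mem_G0 ((G0 F₀).inv_mem hg)

theorem mem_G0_of_ratMat {F₀ : Subfield F} {g : GL ι F} (h : RatMat F₀ (g : Matrix ι ι F)) :
    g ∈ G0 (ι := ι) F₀ := by
  set M₀ : Matrix ι ι F₀ := fun i j => ⟨(g : Matrix ι ι F) i j, h i j⟩ with hM₀
  have hmap : M₀.map (F₀.subtype) = (g : Matrix ι ι F) := by
    ext i j; rfl
  have hdet : M₀.det ≠ 0 := by
    intro h0
    have h1 : (F₀.subtype : F₀ →+* F) M₀.det = (M₀.map (F₀.subtype)).det := by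
      rw [RingHom.map_det]; rfl
    rw [h0, map_zero, hmap] at h1
    have h2 : IsUnit (g : Matrix ι ι F).det := by
      have := (Matrix.isUnit_iff_isUnit_det (g : Matrix ι ι F)).mp g.isUnit
      exact this
    exact h2.ne_zero h1.symm
  refine ⟨Matrix.GeneralLinearGroup.mkOfDetNeZero M₀ hdet, ?_⟩
  apply Units.ext
  ext i j
  rw [Matrix.GeneralLinearGroup.map_apply]
  rfl

/-- the scalar matrix as an element of `GL` -/
noncomputable def scGL (c : F) (hc : c ≠ 0) : GL ι F :=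
  Units.map (Matrix.scalar ι : F →+* Matrix ι ι F).toMonoidHom (Units.mk0 c hc)

theorem scGL_val (c : F) (hc : c ≠ 0) :
    ((scGL (ι := ι) c hc : GL ι F) : Matrix ι ι F) = c • (1 : Matrix ι ι F) := by
  simp [scGL, Matrix.smul_one_eq_diagonal]

theorem scGL_mem_scalars (c : F) (hc : c ≠ 0) : scGL (ι := ι) c hc ∈ Cfsg.Geo.scalars ι F :=
  ⟨Units.mk0 c hc, rfl⟩

theorem scGL_mul_val (c : F) (hc : c ≠ 0) (g : GL ι F) :
    ((scGL (ι := ι) c hc * g : GL ι F) : Matrix ι ι F) = c • (g : Matrix ι ι F) := by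
  rw [Units.val_mul, scGL_val, Matrix.smul_mul, Matrix.one_mul]

/-- the subgroup of matrices that are rational up to a scalar -/
noncomputable def ratUpTo (F₀ : Subfield F) : Subgroup (GL ι F) where
  carrier := {g | ∃ (c : F) (_ : c ≠ 0), RatMat F₀ (c • (g : Matrix ι ι F))}
  one_mem' := ⟨1, one_ne_zero, by simpa using RatMat.one F₀⟩
  mul_mem' := by
    rintro a b ⟨c, hc, ha⟩ ⟨d, hd, hb⟩
    refine ⟨c * d, mul_ne_zero hc hd, ?_⟩
    have : (c * d) • ((a * b : GL ι F) : Matrix ι ι F)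
        = (c • (a : Matrix ι ι F)) * (d • (b : Matrix ι ι F)) := by
      rw [Units.val_mul, Matrix.smul_mul, Matrix.mul_smul, smul_smul]
    rw [this]
    exact ha.mul hb
  inv_mem' := by
    rintro a ⟨c, hc, ha⟩
    refine ⟨c⁻¹, inv_ne_zero hc, ?_⟩
    have h1 : RatMat F₀ ((scGL (ι := ι) c hc * a : GL ι F) : Matrix ι ι F) := by
      rw [scGL_mul_val]; exact ha
    have h2 := ratMat_inv_of_mem_G0 (mem_G0_of_ratMat h1)
    have h3 : ((scGL (ι := ι) c hc * a)⁻¹ : GL ι F) = scGL (ι := ι) c⁻¹ (inv_ne_zero hc) * a⁻¹ := by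
      rw [mul_inv_rev]
      have hcomm : a⁻¹ * (scGL (ι := ι) c hc)⁻¹ = (scGL (ι := ι) c hc)⁻¹ * a⁻¹ := by
        apply Units.ext
        have e1 : (((scGL (ι := ι) c hc)⁻¹ : GL ι F) : Matrix ι ι F) = c⁻¹ • (1 : Matrix ι ι F) := by
          have : (scGL (ι := ι) c hc)⁻¹ = scGL (ι := ι) c⁻¹ (inv_ne_zero hc) := by
            rw [inv_eq_iff_mul_eq_one]
            apply Units.ext
            rw [scGL_mul_val, scGL_val, smul_smul, mul_inv_cancel₀ hc, one_smul, Units.val_one]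
          rw [this, scGL_val]
        rw [Units.val_mul, Units.val_mul, e1, Matrix.mul_smul, Matrix.smul_mul, Matrix.mul_one,
          Matrix.one_mul]
      rw [hcomm]
      congr 1
      rw [inv_eq_iff_mul_eq_one]
      apply Units.ext
      rw [scGL_mul_val, scGL_val, smul_smul, mul_inv_cancel₀ hc, one_smul, Units.val_one]
    rw [h3, scGL_mul_val] at h2
    exact h2

theorem mem_ratUpTo_iff {F₀ : Subfield F} {g : GL ι F} :
    g ∈ ratUpTo (ι := ι) F₀ ↔ ∃ (c : F) (_ : c ≠ 0), RatMat F₀ (c • (g : Matrix ι ι F)) := Iff.rfl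

theorem sup_eq_ratUpTo (F₀ : Subfield F) :
    G0 (ι := ι) F₀ ⊔ Cfsg.Geo.scalars ι F = ratUpTo (ι := ι) F₀ := by
  apply le_antisymm
  · rw [sup_le_iff]
    constructor
    · intro g hg
      exact ⟨1, one_ne_zero, by simpa using ratMat_of_mem_G0 hg⟩
    · intro g hg
      rw [Cfsg.Geo.mem_scalars_iff] at hg
      obtain ⟨c, hc⟩ := hg
      refine ⟨(c : F)⁻¹, inv_ne_zero c.ne_zero, ?_⟩
      rw [hc, smul_smul, inv_mul_cancel₀ c.ne_zero, one_smul]
      exact RatMat.one F₀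
  · rintro g ⟨c, hc, hg⟩
    have h1 : RatMat F₀ ((scGL (ι := ι) c hc * g : GL ι F) : Matrix ι ι F) := by
      rw [scGL_mul_val]; exact hg
    have h2 : scGL (ι := ι) c hc * g ∈ G0 (ι := ι) F₀ := mem_G0_of_ratMat h1
    have h3 : g = (scGL (ι := ι) c hc)⁻¹ * (scGL (ι := ι) c hc * g) := by group
    rw [h3]
    exact Subgroup.mul_mem _
      (Subgroup.mem_sup_right ((Cfsg.Geo.scalars ι F).inv_mem (scGL_mem_scalars c hc)))
      (Subgroup.mem_sup_left h2)

/-- rational transvections lie in `G0 ⊓ SL` -/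
theorem tvGL_mem_G0 {F₀ : Subfield F} (φ v : ι → F) (h : φ ⬝ᵥ v = 0) (hφ : Rat F₀ φ)
    (hv : Rat F₀ v) : tvGL φ v h ∈ G0 (ι := ι) F₀ := by
  apply mem_G0_of_ratMat
  intro i j
  rw [tvGL_val]
  unfold tvMat
  rw [Matrix.add_apply, Matrix.vecMulVec_apply]
  exact F₀.add_mem (RatMat.one F₀ i j) (F₀.mul_mem (hv i) (hφ j))

end Cfsg.Agent.Lib.Helper48.Subfield
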