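import Mathlib
import Cfsg.Prelude.Def_GeometricClasses
import Cfsg.Agent.Lib.Helper48.Subfield.RatGL

set_option autoImplicit false
set_option linter.unusedSectionVars false

/-! Transitivity of `SL_n(F₀)` on non-zero rational vectors and functionals. -/

namespace Cfsg.Agent.Lib.Helper48.Subfield

open scoped MatrixGroups Matrix
open Cfsg.Agent.Lib.Helper95

variable {ι : Type} [Fintype ι] [DecidableEq ι] {F : Type*} [Field F]

/-- coercion of a vector over `F₀` -/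
def up (F₀ : Subfield F) (x : ι → F₀) : ι → F := fun i => (x i : F)

theorem rat_up (F₀ : Subfield F) (x : ι → F₀) : Rat F₀ (up F₀ x) := fun i => (x i).2

theorem exists_up_of_rat {F₀ : Subfield F} {x : ι → F} (hx : Rat F₀ x) :
    ∃ x₀ : ι → F₀, up F₀ x₀ = x := ⟨fun i => ⟨x i, hx i⟩, rfl⟩

theorem up_injective (F₀ : Subfield F) : Function.Injective (up (ι := ι) F₀) := by
  intro x y h
  funext i
  exact Subtype.ext (congrFun h i)

theorem up_single (F₀ : Subfield F) (i : ι) : up F₀ (Pi.single i (1 : F₀)) = Pi.single i (1 : F) := by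
  funext j
  unfold up
  by_cases h : j = i
  · subst h; simp
  · simp [Pi.single_apply, h]

theorem map_mulVec_up (F₀ : Subfield F) (g₀ : GL ι F₀) (x₀ : ι → F₀) :
    ((Matrix.GeneralLinearGroup.map (F₀.subtype : F₀ →+* F) g₀ : GL ι F) : Matrix ι ι F) *ᵥ up F₀ x₀
      = up F₀ ((g₀ : Matrix ι ι F₀) *ᵥ x₀) := by
  funext i
  unfold up Matrix.mulVec dotProduct
  simp only [Matrix.GeneralLinearGroup.map_apply, Subfield.coe_subtype]
  push_cast
  rfl

theorem up_vecMul_map (F₀ : Subfield F) (g₀ : GL ι F₀) (x₀ : ι → F₀) :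
    up F₀ x₀ ᵥ* ((Matrix.GeneralLinearGroup.map (F₀.subtype : F₀ →+* F) g₀ : GL ι F) : Matrix ι ι F)
      = up F₀ (x₀ ᵥ* (g₀ : Matrix ι ι F₀)) := by
  funext i
  unfold up Matrix.vecMul dotProduct
  simp only [Matrix.GeneralLinearGroup.map_apply, Subfield.coe_subtype]
  push_cast
  rfl

theorem map_mem_SL (F₀ : Subfield F) (g₀ : GL ι F₀) (h : g₀ ∈ Cfsg.Geo.specialLinear ι F₀) :
    Matrix.GeneralLinearGroup.map (F₀.subtype : F₀ →+* F) g₀ ∈ Cfsg.Geo.specialLinear ι F := by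
  unfold Cfsg.Geo.specialLinear at h ⊢
  rw [MonoidHom.mem_ker] at h ⊢
  rw [Matrix.GeneralLinearGroup.map_det, h, map_one]

/-- transitivity on non-zero vectors (over any field) -/
theorem exists_SL_move {E : Type*} [Field E] (i₀ j₀ : ι) (hij : i₀ ≠ j₀) (v : ι → E) (hv : v ≠ 0) :
    ∃ t ∈ Cfsg.Geo.specialLinear ι E, (t : Matrix ι ι E) *ᵥ v = Pi.single i₀ 1 := by
  have hM : ∀ (φ w : ι → E) (h : φ ⬝ᵥ w = 0), tvGL φ w h ∈ Cfsg.Geo.specialLinear ι E :=
    fun φ w h => tvGL_mem_specialLinear φ w h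
  have hb : (Pi.single i₀ (1 : E) : ι → E) ∉ (⊥ : Submodule E (ι → E)) := by
    rw [Submodule.mem_bot]
    intro h
    have := congrFun h i₀
    simp at this
  have ha : v ∉ (⊥ : Submodule E (ι → E)) := by
    rw [Submodule.mem_bot]; exact hv
  -- a vector outside `span {v}`
  obtain ⟨c, hc⟩ : ∃ c : ι → E, c ∉ (⊥ : Submodule E (ι → E)) ⊔ Submodule.span E {v} := by
    by_contra hcon
    push_neg at hcon
    have h1 := hcon (Pi.single i₀ 1)
    have h2 := hcon (Pi.single j₀ 1)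
    rw [bot_sup_eq, Submodule.mem_span_singleton] at h1 h2
    obtain ⟨a, ha'⟩ := h1
    obtain ⟨b, hb'⟩ := h2
    have e1 := congrFun ha' i₀
    have e2 := congrFun ha' j₀
    have e3 := congrFun hb' i₀
    have e4 := congrFun hb' j₀
    simp only [Pi.smul_apply, smul_eq_mul, Pi.single_eq_same, Pi.single_apply, hij, hij.symm,
      if_false] at e1 e2 e3 e4
    have ha0 : a ≠ 0 := by
      rintro rfl
      simp at e1
    have hb0 : b ≠ 0 := by
      rintro rfl
      simp at e4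
    have hvj : v j₀ = 0 := by
      rcases mul_eq_zero.mp e2 with h | h
      · exact absurd h ha0
      · exact h
    rw [hvj, mul_zero] at e4
    exact zero_ne_one e4
  obtain ⟨t, htM, -, hta⟩ := exists_move_fixing (Cfsg.Geo.specialLinear ι E) hM ⊥ v
    (Pi.single i₀ 1) c ha hb hc
  exact ⟨t, htM, hta⟩

/-- transpose of an invertible matrix -/
def glT {E : Type*} [Field E] (g : GL ι E) : GL ι E where
  val := (g : Matrix ι ι E)ᵀ
  inv := ((g⁻¹ : GL ι E) : Matrix ι ι E)ᵀ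
  val_inv := by
    rw [← Matrix.transpose_mul, ← Units.val_mul, inv_mul_cancel, Units.val_one,
      Matrix.transpose_one]
  inv_val := by
    rw [← Matrix.transpose_mul, ← Units.val_mul, mul_inv_cancel, Units.val_one,
      Matrix.transpose_one]

theorem glT_mem_SL {E : Type*} [Field E] (g : GL ι E) (h : g ∈ Cfsg.Geo.specialLinear ι E) :
    glT g ∈ Cfsg.Geo.specialLinear ι E := by
  unfold Cfsg.Geo.specialLinear at h ⊢
  rw [MonoidHom.mem_ker] at h ⊢
  apply Units.ext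
  have h1 := congrArg Units.val h
  rw [Matrix.GeneralLinearGroup.val_det_apply] at h1 ⊢
  rw [Units.val_one] at h1 ⊢
  show ((g : Matrix ι ι E)ᵀ).det = 1
  rw [Matrix.det_transpose]; exact h1

/-- transitivity of the rational special linear group on rational vectors -/
theorem exists_rat_move (F₀ : Subfield F) (i₀ j₀ : ι) (hij : i₀ ≠ j₀) (v : ι → F) (hv : v ≠ 0)
    (hvr : Rat F₀ v) :
    ∃ g : GL ι F, g ∈ G0 (ι := ι) F₀ ∧ g ∈ Cfsg.Geo.specialLinear ι F ∧
      (g : Matrix ι ι F) *ᵥ v = Pi.single i₀ 1 := by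
  obtain ⟨v₀, rfl⟩ := exists_up_of_rat hvr
  have hv₀ : v₀ ≠ 0 := by
    rintro rfl
    apply hv
    funext i; simp [up]
  obtain ⟨t, htS, ht⟩ := exists_SL_move (E := F₀) i₀ j₀ hij v₀ hv₀
  refine ⟨Matrix.GeneralLinearGroup.map (F₀.subtype : F₀ →+* F) t, ⟨t, rfl⟩,
    map_mem_SL F₀ t htS, ?_⟩
  rw [map_mulVec_up, ht, up_single]

/-- transitivity of the rational special linear group on rational functionals -/
theorem exists_rat_move_dual (F₀ : Subfield F) (i₀ j₀ : ι) (hij : i₀ ≠ j₀) (η : ι → F) (hη : η ≠ 0)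
    (hηr : Rat F₀ η) :
    ∃ g : GL ι F, g ∈ G0 (ι := ι) F₀ ∧ g ∈ Cfsg.Geo.specialLinear ι F ∧
      η ᵥ* ((g⁻¹ : GL ι F) : Matrix ι ι F) = Pi.single i₀ 1 := by
  obtain ⟨η₀, rfl⟩ := exists_up_of_rat hηr
  have hη₀ : η₀ ≠ 0 := by
    rintro rfl
    apply hη
    funext i; simp [up]
  obtain ⟨s, hsS, hs⟩ := exists_SL_move (E := F₀) i₀ j₀ hij η₀ hη₀
  set t : GL ι F₀ := (glT s)⁻¹ with ht
  have htS : t ∈ Cfsg.Geo.specialLinear ι F₀ :=
    (Cfsg.Geo.specialLinear ι F₀).inv_mem (glT_mem_SL s hsS)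
  refine ⟨Matrix.GeneralLinearGroup.map (F₀.subtype : F₀ →+* F) t, ⟨t, rfl⟩,
    map_mem_SL F₀ t htS, ?_⟩
  rw [← Matrix.GeneralLinearGroup.map_inv, ht, inv_inv, up_vecMul_map]
  have : η₀ ᵥ* ((glT s : GL ι F₀) : Matrix ι ι F₀) = (s : Matrix ι ι F₀) *ᵥ η₀ := by
    show η₀ ᵥ* (s : Matrix ι ι F₀)ᵀ = _
    rw [Matrix.vecMul_transpose]
  rw [this, hs, up_single]

end Cfsg.Agent.Lib.Helper48.Subfield
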