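import Mathlib
import Cfsg.Prelude.Def_GeometricClasses
import Cfsg.Agent.Lib.Helper48.Subfield.Trans
import Cfsg.Agent.Lib.Helper07.GLComm

set_option autoImplicit false
set_option linter.unusedSectionVars false

/-! The coefficient ring of an overgroup of the subfield subgroup. -/

namespace Cfsg.Agent.Lib.Helper48.Subfield

open scoped MatrixGroups Matrix
open Cfsg.Agent.Lib.Helper95

variable {ι : Type} [Fintype ι] [DecidableEq ι] {F : Type*} [Field F]

theorem single_dot_single (i j : ι) (h : i ≠ j) (a b : F) :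
    (Pi.single j a : ι → F) ⬝ᵥ Pi.single i b = 0 := by
  rw [single_dotProduct, Pi.single_apply, if_neg h.symm, mul_zero]

/-- the elementary transvection `1 + a E_{ij}` -/
def elemT (i j : ι) (h : i ≠ j) (a : F) : GL ι F :=
  tvGL (Pi.single j a) (Pi.single i 1) (single_dot_single i j h a 1)

theorem elemT_val (i j : ι) (h : i ≠ j) (a : F) :
    ((elemT i j h a : GL ι F) : Matrix ι ι F) = 1 + Matrix.single i j a := by
  unfold elemT
  rw [tvGL_val]
  unfold tvMat
  congr 1
  ext k l
  rw [Matrix.vecMulVec_apply, Matrix.single_apply, Pi.single_apply, Pi.single_apply]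
  by_cases h1 : k = i
  · by_cases h2 : l = j
    · simp [h1, h2]
    · have : ¬ (j = l) := fun h' => h2 h'.symm
      simp [h1, h2, this]
  · have : ¬ (i = k) := fun h' => h1 h'.symm
    simp [h1, this]

theorem elemT_eq_toGL (i j : ι) (h : i ≠ j) (a : F) :
    elemT i j h a =
      Matrix.SpecialLinearGroup.toGL (Matrix.SpecialLinearGroup.transvection h a) := by
  apply Units.ext
  rw [elemT_val]
  rfl

theorem exists_third (hcard : 3 ≤ Fintype.card ι) (i j : ι) : ∃ k : ι, k ≠ i ∧ k ≠ j := by
  by_contra hcon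
  push Not at hcon
  have hsub : (Finset.univ : Finset ι) ⊆ {i, j} := by
    intro k _
    by_cases hk : k = i
    · simp [hk]
    · simp [hcon k hk]
  have h1 := Finset.card_le_card hsub
  rw [Finset.card_univ] at h1
  have h2 : ({i, j} : Finset ι).card ≤ 2 := Finset.card_le_two
  omega

theorem exists_fourth (hcard : 4 ≤ Fintype.card ι) (i j k : ι) :
    ∃ l : ι, l ≠ i ∧ l ≠ j ∧ l ≠ k := by
  by_contra hcon
  push Not at hcon
  have hsub : (Finset.univ : Finset ι) ⊆ {i, j, k} := by
    intro l _
    by_cases hl : l = i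
    · simp [hl]
    · by_cases hl2 : l = j
      · simp [hl2]
      · simp [hcon l hl hl2]
  have h1 := Finset.card_le_card hsub
  rw [Finset.card_univ] at h1
  have h2 : ({i, j, k} : Finset ι).card ≤ 3 := Finset.card_le_three
  omega

section coeff

variable (K : Subgroup (GL ι F))

/-- one commutator step: `E_ij(a), E_jk(b) ∈ K ⇒ E_ik(ab) ∈ K`. -/
theorem elemT_comm_mem (i j k : ι) (hij : i ≠ j) (hjk : j ≠ k) (hik : i ≠ k) (a b : F)
    (h1 : elemT i j hij a ∈ K) (h2 : elemT j k hjk b ∈ K) : elemT i k hik (a * b) ∈ K := by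
  have hηu : (Pi.single k b : ι → F) ⬝ᵥ Pi.single i 1 = 0 := single_dot_single i k hik b 1
  have key := tvGL_comm_mem K (Pi.single j a) (Pi.single i 1) (Pi.single k b) (Pi.single j 1)
    (single_dot_single i j hij a 1) (single_dot_single j k hjk b 1) hηu
    (by rw [smul_dotProduct, hηu, smul_zero]) h1 h2
  have e : ((Pi.single j a : ι → F) ⬝ᵥ Pi.single j 1) • (Pi.single k b : ι → F)
      = Pi.single k (a * b) := by
    rw [single_dotProduct, Pi.single_eq_same, mul_one]
    funext l
    simp [Pi.single_apply]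
  unfold elemT
  have : tvGL (Pi.single k (a * b)) (Pi.single i 1) (single_dot_single i k hik (a * b) 1)
      = tvGL (((Pi.single j a : ι → F) ⬝ᵥ Pi.single j 1) • (Pi.single k b : ι → F))
          (Pi.single i 1) (by rw [smul_dotProduct, hηu, smul_zero]) := by
    apply Units.ext
    simp only [tvGL_val]
    rw [e]
  rw [this]
  exact key

/-- the coefficient set of `K` -/
def coeffSet : Set F := {a | ∀ (i j : ι) (h : i ≠ j), elemT i j h a ∈ K}

variable {K}

theorem elemT_add (i j : ι) (h : i ≠ j) (a b : F) :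
    elemT i j h a * elemT i j h b = elemT i j h (a + b) := by
  unfold elemT
  rw [tvGL_mul_same _ _ _ _ _ (by
    rw [← Pi.single_add]; exact single_dot_single i j h (a + b) 1)]
  apply Units.ext
  simp only [tvGL_val]
  rw [← Pi.single_add]

theorem elemT_zero (i j : ι) (h : i ≠ j) : elemT i j h (0 : F) = 1 := by
  unfold elemT
  have : (Pi.single j (0 : F) : ι → F) = 0 := Pi.single_zero j
  apply Units.ext
  simp only [tvGL_val, Units.val_one]
  rw [this]
  unfold tvMat
  ext k l
  simp [Matrix.vecMulVec]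

/-- propagation: one elementary transvection with coefficient `a` in `K` gives all of them,
provided the `E_ij(1)` are in `K`. -/
theorem mem_coeffSet_of_one (hcard : 3 ≤ Fintype.card ι)
    (h1 : (1 : F) ∈ coeffSet K) (i j : ι) (hij : i ≠ j) (a : F)
    (ha : elemT i j hij a ∈ K) : a ∈ coeffSet K := by
  -- step A: change the second index
  have stepA : ∀ (i j : ι) (hij : i ≠ j), elemT i j hij a ∈ K →
      ∀ (k : ι) (hik : i ≠ k), elemT i k hik a ∈ K := by
    intro i j hij ha k hik
    by_cases hjk : j = k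
    · subst hjk; exact ha
    · have := elemT_comm_mem K i j k hij hjk hik a 1 ha (h1 j k hjk)
      rwa [mul_one] at this
  -- step B: change the first index
  have stepB : ∀ (i j : ι) (hij : i ≠ j), elemT i j hij a ∈ K →
      ∀ (k : ι) (hkj : k ≠ j), elemT k j hkj a ∈ K := by
    intro i j hij ha k hkj
    by_cases hki : k = i
    · subst hki; exact ha
    · have := elemT_comm_mem K k i j hki hij hkj 1 a (h1 k i hki) ha
      rwa [one_mul] at this
  intro k l hkl
  by_cases hkj : k = j
  · -- k = j
    subst hkj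
    by_cases hli : l = i
    · subst hli
      obtain ⟨m, hml, hmk⟩ := exists_third hcard l k
      have s1 := stepA l k hij ha m hml.symm
      have s2 := stepB l m hml.symm s1 k hmk.symm
      exact stepA k m hmk.symm s2 l hkl
    · have hil : i ≠ l := fun h => hli h.symm
      have s1 := stepA i k hij ha l hil
      exact stepB i l hil s1 k hkl
  · have s1 := stepB i j hij ha k hkj
    exact stepA k j hkj s1 l hkl

theorem coeffSet_add (a b : F) (ha : a ∈ coeffSet K) (hb : b ∈ coeffSet K) :
    a + b ∈ coeffSet K := by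
  intro i j h
  rw [← elemT_add]
  exact K.mul_mem (ha i j h) (hb i j h)

theorem coeffSet_zero : (0 : F) ∈ coeffSet K := by
  intro i j h
  rw [elemT_zero]
  exact K.one_mem

theorem coeffSet_mul (hcard : 3 ≤ Fintype.card ι) (a b : F) (ha : a ∈ coeffSet K)
    (hb : b ∈ coeffSet K) : a * b ∈ coeffSet K := by
  intro i k hik
  obtain ⟨j, hji, hjk⟩ := exists_third hcard i k
  exact elemT_comm_mem K i j k hji.symm hjk hik a b (ha i j hji.symm) (hb j k hjk)

/-- rational elements are coefficients, when `K` contains the rational transvections -/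
theorem coeffSet_of_rat {F₀ : Subfield F}
    (hK : ∀ (φ v : ι → F) (h : φ ⬝ᵥ v = 0), Rat F₀ φ → Rat F₀ v → tvGL φ v h ∈ K)
    (a : F) (ha : a ∈ F₀) : a ∈ coeffSet K := by
  intro i j h
  exact hK _ _ _ (Rat.single F₀ j ha) (Rat.single F₀ i F₀.one_mem)

/-- the coefficient subalgebra -/
def coeffAlg {F₀ : Subfield F} (hcard : 3 ≤ Fintype.card ι)
    (hK : ∀ (φ v : ι → F) (h : φ ⬝ᵥ v = 0), Rat F₀ φ → Rat F₀ v → tvGL φ v h ∈ K) :
    Subalgebra F₀ F where
  carrier := coeffSet K
  mul_mem' := fun {a b} ha hb => coeffSet_mul hcard a b ha hb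
  add_mem' := fun {a b} ha hb => coeffSet_add a b ha hb
  algebraMap_mem' := fun r => coeffSet_of_rat hK _ r.2

/-- the dichotomy: the coefficient set is `F₀` or everything -/
theorem coeffSet_dichotomy [Fintype F] {F₀ : Subfield F} (hcard : 3 ≤ Fintype.card ι)
    (hK : ∀ (φ v : ι → F) (h : φ ⬝ᵥ v = 0), Rat F₀ φ → Rat F₀ v → tvGL φ v h ∈ K)
    (r : ℕ) (hr : r.Prime) (hF : Fintype.card F = Nat.card F₀ ^ r) :
    (∀ a ∈ coeffSet K, a ∈ F₀) ∨ (∀ a : F, a ∈ coeffSet K) := by
  have : Fintype F₀ := Fintype.ofFinite F₀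
  have hfin : Module.finrank F₀ F = r := by
    have h1 : Fintype.card F = Fintype.card F₀ ^ Module.finrank F₀ F :=
      Module.card_eq_pow_finrank
    rw [Nat.card_eq_fintype_card] at hF
    rw [hF] at h1
    have h2 : 1 < Fintype.card F₀ := Fintype.one_lt_card
    exact (Nat.pow_right_injective h2 h1).symm
  have hsimple : IsSimpleOrder (Subalgebra F₀ F) :=
    Subalgebra.isSimpleOrder_of_finrank_prime F₀ F (hfin ▸ hr)
  rcases hsimple.eq_bot_or_eq_top (coeffAlg hcard hK) with h | h
  · left
    intro a ha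
    have : a ∈ coeffAlg hcard hK := ha
    rw [h, Algebra.mem_bot] at this
    obtain ⟨y, rfl⟩ := this
    exact y.2
  · right
    intro a
    have : a ∈ coeffAlg hcard hK := by rw [h]; exact Algebra.mem_top
    exact this

/-- if every element is a coefficient, `K` contains `SL` -/
theorem specialLinear_le_of_coeffSet (h : ∀ a : F, a ∈ coeffSet K) :
    Cfsg.Geo.specialLinear ι F ≤ K := by
  have := Cfsg.Agent.Lib.Helper07.ker_det_le_of_transvection_mem K (fun i j hij c => by
    rw [← elemT_eq_toGL]
    exact h c i j hij)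
  exact this

end coeff

end Cfsg.Agent.Lib.Helper48.Subfield
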