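import Mathlib
import Cfsg.Prelude.Def_Solvable
import Cfsg.Agent.S0035
import Cfsg.Agent.S0039
import Cfsg.Agent.S0040

set_option autoImplicit false
set_option linter.unusedSectionVars false

/-! A Frobenius complement is not an elementary abelian `p`-group of order `> p`. -/

namespace Cfsg.Agent.Lib.Helper48.Subfield

theorem no_elementary_frobenius_complement {G : Type*} [Group G] [Finite G] (C : Subgroup G)
    (hC : Cfsg.IsFrobeniusComplement C) (p : ℕ) [hp : Fact p.Prime]
    (hexp : ∀ c ∈ C, c ^ p = 1) (hcard : p < Nat.card C) : False := by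
  obtain ⟨N, -, hNn, hcompl⟩ := Cfsg.Agent.S0035.result C hC
  haveI := hNn
  have hN : N ≠ ⊥ := by
    rintro rfl
    exact hC.2.1 (Subgroup.isComplement'_bot_left.mp hcompl)
  have hfpf := (Cfsg.Agent.S0039.result N C hcompl hN hC.1).mp hC
  have hpg : IsPGroup p C := by
    intro c
    refine ⟨1, ?_⟩
    rw [pow_one]
    apply Subtype.ext
    rw [Subgroup.coe_pow]
    exact hexp c.1 c.2
  let P : Sylow p C := default
  have hPtop : (P : Subgroup C) = ⊤ := by
    have h1 : IsPGroup p (⊤ : Subgroup C) := by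
      intro c
      obtain ⟨k, hk⟩ := hpg c.1
      exact ⟨k, Subtype.ext (by rw [Subgroup.coe_pow]; exact hk)⟩
    exact (P.is_maximal' h1 le_top).symm
  have hPcard : Nat.card (P : Subgroup C) = Nat.card C := by
    rw [hPtop]; exact Subgroup.card_top
  have hPexp : ∀ x : (P : Subgroup C), x ^ p = 1 := by
    intro x
    apply Subtype.ext
    apply Subtype.ext
    rw [Subgroup.coe_pow, Subgroup.coe_pow]
    exact hexp x.1.1 x.1.2
  rcases Cfsg.Agent.S0040.result N C hcompl hN hfpf p P with hcyc | ⟨n, ⟨e⟩⟩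
  · obtain ⟨g, hg⟩ := hcyc.exists_generator
    have h1 : orderOf g = Nat.card (P : Subgroup C) := orderOf_eq_card_of_forall_mem_zpowers hg
    have h2 : orderOf g ∣ p := orderOf_dvd_of_pow_eq_one (hPexp g)
    have h3 : orderOf g ≤ p := Nat.le_of_dvd hp.out.pos h2
    omega
  · have h1 : (QuaternionGroup.xa (0 : ZMod (2 * 2 ^ n))) ^ p = 1 := by
      have := hPexp (e.symm (QuaternionGroup.xa 0))
      rw [← map_pow] at this
      have h2 := congrArg e this
      rwa [MulEquiv.apply_symm_apply, map_one] at h2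
    have h2 : orderOf (QuaternionGroup.xa (0 : ZMod (2 * 2 ^ n))) ∣ p :=
      orderOf_dvd_of_pow_eq_one h1
    rw [QuaternionGroup.orderOf_xa] at h2
    rcases (Nat.dvd_prime hp.out).mp h2 with h | h
    · omega
    · have : ¬ (4 : ℕ).Prime := by decide
      exact this (h ▸ hp.out)

end Cfsg.Agent.Lib.Helper48.Subfield
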