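import Mathlib
import Cfsg.Prelude.Def_GeometricClasses
import Cfsg.Agent.Lib.Helper48.Subfield.Ring

set_option autoImplicit false
set_option linter.unusedSectionVars false

/-! Overgroups with coefficient ring `F₀`: transvections with a rational centre or axis. -/

namespace Cfsg.Agent.Lib.Helper48.Subfield

open scoped MatrixGroups Matrix
open Cfsg.Agent.Lib.Helper95

variable {ι : Type} [Fintype ι] [DecidableEq ι] {F : Type*} [Field F]

/-- `x` spans a rational line (or is zero) -/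
def Ratline (F₀ : Subfield F) (x : ι → F) : Prop := ∃ c : F, c ≠ 0 ∧ Rat F₀ (c • x)

theorem Ratline.of_rat {F₀ : Subfield F} {x : ι → F} (h : Rat F₀ x) : Ratline F₀ x :=
  ⟨1, one_ne_zero, by simpa using h⟩

theorem ne_zero_of_not_ratline {F₀ : Subfield F} {x : ι → F} (h : ¬ Ratline F₀ x) : x ≠ 0 := by
  rintro rfl
  exact h (Ratline.of_rat (Rat.zero F₀))

theorem tvGL_congr (φ φ' v v' : ι → F) (h : φ ⬝ᵥ v = 0) (h' : φ' ⬝ᵥ v' = 0) (e1 : φ = φ')
    (e2 : v = v') : tvGL φ v h = tvGL φ' v' h' := by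
  subst e1 e2; rfl

/-- the standing hypotheses -/
structure Setup (F₀ : Subfield F) (K : Subgroup (GL ι F)) : Prop where
  hcard : 4 ≤ Fintype.card ι
  hG0 : ∀ g ∈ G0 (ι := ι) F₀, g ∈ Cfsg.Geo.specialLinear ι F → g ∈ K
  hSL : K ≤ Cfsg.Geo.specialLinear ι F
  hA : ∀ a ∈ coeffSet K, a ∈ F₀

namespace Setup

variable {F₀ : Subfield F} {K : Subgroup (GL ι F)}

theorem rat_tv (S : Setup F₀ K) (φ v : ι → F) (h : φ ⬝ᵥ v = 0) (hφ : Rat F₀ φ) (hv : Rat F₀ v) :
    tvGL φ v h ∈ K :=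
  S.hG0 _ (tvGL_mem_G0 φ v h hφ hv) (tvGL_mem_specialLinear φ v h)

theorem one_mem (S : Setup F₀ K) : (1 : F) ∈ coeffSet K :=
  coeffSet_of_rat (fun φ v h hφ hv => S.rat_tv φ v h hφ hv) 1 F₀.one_mem

theorem card3 (S : Setup F₀ K) : 3 ≤ Fintype.card ι := by
  have := S.hcard; omega

theorem exists_pair (S : Setup F₀ K) : ∃ i j : ι, i ≠ j := by
  apply Fintype.exists_pair_of_one_lt_card
  have := S.hcard; omega

theorem coeff_of_elemT (S : Setup F₀ K) (i j : ι) (hij : i ≠ j) (a : F)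
    (h : elemT i j hij a ∈ K) : a ∈ F₀ :=
  S.hA a (mem_coeffSet_of_one S.card3 S.one_mem i j hij a h)

/-- (∗) a transvection of `K` with rational centre has rational axis -/
theorem rat_axis (S : Setup F₀ K) (ψ v : ι → F) (h : ψ ⬝ᵥ v = 0) (hv : Rat F₀ v) (hv0 : v ≠ 0)
    (hmem : tvGL ψ v h ∈ K) : Rat F₀ ψ := by
  obtain ⟨i₀, j₀, hij⟩ := S.exists_pair
  obtain ⟨g, hgG0, hgSL, hgv⟩ := exists_rat_move F₀ i₀ j₀ hij v hv0 hv
  have hgK := S.hG0 g hgG0 hgSL
  set ψ' : ι → F := ψ ᵥ* ((g⁻¹ : GL ι F) : Matrix ι ι F) with hψ'def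
  have h' : ψ' ⬝ᵥ ((g : Matrix ι ι F) *ᵥ v) = 0 := by rw [hψ'def, conj_dot_eq]; exact h
  have hconj : g * tvGL ψ v h * g⁻¹ = tvGL ψ' ((g : Matrix ι ι F) *ᵥ v) h' := tvGL_conj g ψ v h h'
  have hmem' : tvGL ψ' ((g : Matrix ι ι F) *ᵥ v) h' ∈ K :=
    hconj ▸ K.mul_mem (K.mul_mem hgK hmem) (K.inv_mem hgK)
  have h'' : ψ' ⬝ᵥ (Pi.single i₀ 1 : ι → F) = 0 := hgv ▸ h'
  have hmem'' : tvGL ψ' (Pi.single i₀ 1) h'' ∈ K := by
    rw [tvGL_congr ψ' ψ' (Pi.single i₀ 1) ((g : Matrix ι ι F) *ᵥ v) h'' h' rfl hgv.symm]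
    exact hmem'
  have hψ' : Rat F₀ ψ' := by
    intro j
    by_cases hj : j = i₀
    · subst hj
      have : ψ' j = 0 := by
        rw [dotProduct_single, mul_one] at h''; exact h''
      rw [this]; exact F₀.zero_mem
    · obtain ⟨k, hki, hkj⟩ := exists_third S.card3 i₀ j
      have hηu : (Pi.single k (1 : F) : ι → F) ⬝ᵥ Pi.single i₀ 1 = 0 :=
        single_dot_single i₀ k hki.symm 1 1
      have hsm : ((ψ' ⬝ᵥ (Pi.single j 1 : ι → F)) • (Pi.single k (1 : F) : ι → F)) ⬝ᵥ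
          (Pi.single i₀ 1 : ι → F) = 0 := by rw [smul_dotProduct, hηu, smul_zero]
      have key := tvGL_comm_mem K ψ' (Pi.single i₀ 1) (Pi.single k 1) (Pi.single j 1) h''
        (single_dot_single j k hkj.symm 1 1) hηu hsm hmem'' (S.one_mem j k hkj.symm)
      have e : ((ψ' ⬝ᵥ (Pi.single j 1 : ι → F)) • (Pi.single k (1 : F) : ι → F))
          = Pi.single k (ψ' j) := by
        rw [dotProduct_single, mul_one]
        funext l
        simp [Pi.single_apply]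
      have hE : elemT i₀ k hki.symm (ψ' j) ∈ K := by
        unfold elemT
        rw [tvGL_congr (Pi.single k (ψ' j)) _ (Pi.single i₀ 1) (Pi.single i₀ 1) _ hsm e.symm rfl]
        exact key
      exact S.coeff_of_elemT i₀ k hki.symm _ hE
  have hback : ψ = ψ' ᵥ* (g : Matrix ι ι F) := by
    rw [hψ'def, Matrix.vecMul_vecMul, ← Units.val_mul, inv_mul_cancel, Units.val_one,
      Matrix.vecMul_one]
  rw [hback]
  exact RatMat.vecMul (ratMat_of_mem_G0 hgG0) hψ'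

/-- (∗∗) a transvection of `K` with rational non-zero axis has rational centre -/
theorem rat_centre (S : Setup F₀ K) (ψ v : ι → F) (h : ψ ⬝ᵥ v = 0) (hψ : Rat F₀ ψ) (hψ0 : ψ ≠ 0)
    (hmem : tvGL ψ v h ∈ K) : Rat F₀ v := by
  obtain ⟨i₀, j₀, hij⟩ := S.exists_pair
  obtain ⟨g, hgG0, hgSL, hgψ⟩ := exists_rat_move_dual F₀ i₀ j₀ hij ψ hψ0 hψ
  have hgK := S.hG0 g hgG0 hgSL
  set v' : ι → F := (g : Matrix ι ι F) *ᵥ v with hv'def
  have h' : (ψ ᵥ* ((g⁻¹ : GL ι F) : Matrix ι ι F)) ⬝ᵥ v' = 0 := by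
    rw [hv'def, conj_dot_eq]; exact h
  have hconj : g * tvGL ψ v h * g⁻¹ = tvGL (ψ ᵥ* ((g⁻¹ : GL ι F) : Matrix ι ι F)) v' h' :=
    tvGL_conj g ψ v h h'
  have hmem' : tvGL (ψ ᵥ* ((g⁻¹ : GL ι F) : Matrix ι ι F)) v' h' ∈ K :=
    hconj ▸ K.mul_mem (K.mul_mem hgK hmem) (K.inv_mem hgK)
  have h'' : (Pi.single i₀ 1 : ι → F) ⬝ᵥ v' = 0 := hgψ ▸ h'
  have hmem'' : tvGL (Pi.single i₀ 1) v' h'' ∈ K := by
    rw [tvGL_congr (Pi.single i₀ 1) (ψ ᵥ* ((g⁻¹ : GL ι F) : Matrix ι ι F)) v' v' h'' h'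
      hgψ.symm rfl]
    exact hmem'
  have hv' : Rat F₀ v' := by
    intro j
    by_cases hj : j = i₀
    · subst hj
      have : v' j = 0 := by
        rw [single_dotProduct, one_mul] at h''; exact h''
      rw [this]; exact F₀.zero_mem
    · obtain ⟨k, hki, hkj⟩ := exists_third S.card3 i₀ j
      have hηu : (Pi.single i₀ (1 : F) : ι → F) ⬝ᵥ Pi.single k 1 = 0 :=
        single_dot_single k i₀ hki 1 1
      have hsm : (((Pi.single j 1 : ι → F) ⬝ᵥ v') • (Pi.single i₀ (1 : F) : ι → F)) ⬝ᵥ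
          (Pi.single k 1 : ι → F) = 0 := by rw [smul_dotProduct, hηu, smul_zero]
      have key := tvGL_comm_mem K (Pi.single j 1) (Pi.single k 1) (Pi.single i₀ 1) v'
        (single_dot_single k j hkj 1 1) h'' hηu hsm (S.one_mem k j hkj) hmem''
      have e : (((Pi.single j 1 : ι → F) ⬝ᵥ v') • (Pi.single i₀ (1 : F) : ι → F))
          = Pi.single i₀ (v' j) := by
        rw [single_dotProduct, one_mul]
        funext l
        simp [Pi.single_apply]
      have hE : elemT k i₀ hki (v' j) ∈ K := by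
        unfold elemT
        rw [tvGL_congr (Pi.single i₀ (v' j)) _ (Pi.single k 1) (Pi.single k 1) _ hsm e.symm rfl]
        exact key
      exact S.coeff_of_elemT k i₀ hki _ hE
  have hback : v = ((g⁻¹ : GL ι F) : Matrix ι ι F) *ᵥ v' := by
    rw [hv'def, Matrix.mulVec_mulVec, ← Units.val_mul, inv_mul_cancel, Units.val_one,
      Matrix.one_mulVec]
  rw [hback]
  exact RatMat.mulVec (ratMat_inv_of_mem_G0 hgG0) hv'

/-- (F1) an irrational transvection of `K`: no rational functional kills the centre -/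
theorem dot_centre_ne_zero (S : Setup F₀ K) (ψ u : ι → F) (h : ψ ⬝ᵥ u = 0)
    (hmem : tvGL ψ u h ∈ K) (hu : ¬ Ratline F₀ u) (hψ : ¬ Ratline F₀ ψ)
    (φ : ι → F) (hφ : Rat F₀ φ) (hφ0 : φ ≠ 0) : φ ⬝ᵥ u ≠ 0 := by
  intro hφu
  have claim : ∀ w : ι → F, Rat F₀ w → φ ⬝ᵥ w = 0 → ψ ⬝ᵥ w = 0 := by
    intro w hw hφw
    by_contra hne
    have h1 : tvGL φ w hφw ∈ K := S.rat_tv φ w hφw hφ hw
    have hsm : ((ψ ⬝ᵥ w) • φ) ⬝ᵥ u = 0 := by rw [smul_dotProduct, hφu, smul_zero]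
    have key := tvGL_comm_mem K ψ u φ w h hφw hφu hsm hmem h1
    have hsw : φ ⬝ᵥ ((ψ ⬝ᵥ w) • u) = 0 := by rw [dotProduct_smul, hφu, smul_zero]
    rw [← tvGL_smul_swap φ u (ψ ⬝ᵥ w) hsw hsm] at key
    exact hu ⟨ψ ⬝ᵥ w, hne, S.rat_centre φ _ hsw hφ hφ0 key⟩
  obtain ⟨k, hk⟩ : ∃ k, φ k ≠ 0 := by
    by_contra hcon
    push Not at hcon
    exact hφ0 (funext hcon)
  have hrel : ∀ j, φ k * ψ j = φ j * ψ k := by
    intro j
    have hw : Rat F₀ (φ k • (Pi.single j 1 : ι → F) - φ j • (Pi.single k 1 : ι → F)) :=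
      Rat.sub (Rat.smul (hφ k) (Rat.single F₀ j F₀.one_mem))
        (Rat.smul (hφ j) (Rat.single F₀ k F₀.one_mem))
    have h1 : φ ⬝ᵥ (φ k • (Pi.single j 1 : ι → F) - φ j • (Pi.single k 1 : ι → F)) = 0 := by
      rw [dotProduct_sub, dotProduct_smul, dotProduct_smul, dotProduct_single, dotProduct_single]
      simp only [smul_eq_mul, mul_one]
      ring
    have h2 := claim _ hw h1
    rw [dotProduct_sub, dotProduct_smul, dotProduct_smul, dotProduct_single, dotProduct_single]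
      at h2
    simp only [smul_eq_mul, mul_one] at h2
    linear_combination h2
  by_cases hψk : ψ k = 0
  · apply hψ
    have : ψ = 0 := by
      funext j
      have := hrel j
      rw [hψk, mul_zero] at this
      rcases mul_eq_zero.mp this with h | h
      · exact absurd h hk
      · exact h
    rw [this]
    exact Ratline.of_rat (Rat.zero F₀)
  · apply hψ
    refine ⟨φ k / ψ k, div_ne_zero hk hψk, ?_⟩
    have : (φ k / ψ k) • ψ = φ := by
      funext j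
      simp only [Pi.smul_apply, smul_eq_mul]
      have := hrel j
      field_simp
      linear_combination this
    rw [this]
    exact hφ

end Setup

end Cfsg.Agent.Lib.Helper48.Subfield
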