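import Mathlib
import Cfsg.Prelude.Def_GeometricClasses
import Cfsg.Agent.Lib.Helper48.Subfield.Star
import Cfsg.Agent.Lib.Helper48.Subfield.FrobAbs

set_option autoImplicit false
set_option linter.unusedSectionVars false

/-! The Frobenius group generated by the rational transvections with a fixed centre and an
irrational transvection. -/

namespace Cfsg.Agent.Lib.Helper48.Subfield

open scoped MatrixGroups Matrix
open Cfsg.Agent.Lib.Helper95

variable {ι : Type} [Fintype ι] [DecidableEq ι] {F : Type*} [Field F]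

/-- invertible matrices of the form `1 + v fᵀ + u hᵀ` -/
def biSub (v u : ι → F) : Subgroup (GL ι F) where
  carrier := {y | ∃ f h : ι → F,
    (y : Matrix ι ι F) = 1 + Matrix.vecMulVec v f + Matrix.vecMulVec u h}
  one_mem' := ⟨0, 0, by simp⟩
  mul_mem' := by
    rintro a b ⟨f, h, ha⟩ ⟨f', h', hb⟩
    refine ⟨f' + f ᵥ* (b : Matrix ι ι F), h' + h ᵥ* (b : Matrix ι ι F), ?_⟩
    have h1 : ((a * b : GL ι F) : Matrix ι ι F)
        = (b : Matrix ι ι F) + Matrix.vecMulVec v (f ᵥ* (b : Matrix ι ι F))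
          + Matrix.vecMulVec u (h ᵥ* (b : Matrix ι ι F)) := by
      rw [Units.val_mul, ha, Matrix.add_mul, Matrix.add_mul, Matrix.one_mul, Matrix.vecMulVec_mul,
        Matrix.vecMulVec_mul]
    rw [h1, Matrix.vecMulVec_add, Matrix.vecMulVec_add]
    nth_rewrite 1 [hb]
    abel
  inv_mem' := by
    rintro a ⟨f, h, ha⟩
    refine ⟨-(f ᵥ* ((a⁻¹ : GL ι F) : Matrix ι ι F)), -(h ᵥ* ((a⁻¹ : GL ι F) : Matrix ι ι F)), ?_⟩
    have h1 : (a : Matrix ι ι F) * ((a⁻¹ : GL ι F) : Matrix ι ι F) = 1 := by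
      rw [← Units.val_mul, mul_inv_cancel, Units.val_one]
    rw [ha, Matrix.add_mul, Matrix.add_mul, Matrix.one_mul, Matrix.vecMulVec_mul,
      Matrix.vecMulVec_mul] at h1
    rw [Matrix.vecMulVec_neg, Matrix.vecMulVec_neg]
    rw [← h1]
    abel

theorem biSub_mulVec {v u f h : ι → F} {y : GL ι F}
    (hy : (y : Matrix ι ι F) = 1 + Matrix.vecMulVec v f + Matrix.vecMulVec u h) (x : ι → F) :
    (y : Matrix ι ι F) *ᵥ x = x + (f ⬝ᵥ x) • v + (h ⬝ᵥ x) • u := by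
  rw [hy, Matrix.add_mulVec, Matrix.add_mulVec, Matrix.one_mulVec, Matrix.vecMulVec_mulVec,
    Matrix.vecMulVec_mulVec, op_smul_eq_smul, op_smul_eq_smul]

theorem biSub_vecMul {v u f h : ι → F} {y : GL ι F}
    (hy : (y : Matrix ι ι F) = 1 + Matrix.vecMulVec v f + Matrix.vecMulVec u h) (θ : ι → F) :
    θ ᵥ* (y : Matrix ι ι F) = θ + (θ ⬝ᵥ v) • f + (θ ⬝ᵥ u) • h := by
  rw [hy, Matrix.vecMul_add, Matrix.vecMul_add, Matrix.vecMul_one, Matrix.vecMul_vecMulVec,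
    Matrix.vecMul_vecMulVec]

/-- the group of rational transvections with centre `v` -/
def UC (F₀ : Subfield F) (v : ι → F) : Subgroup (GL ι F) where
  carrier := {y | ∃ (θ : ι → F) (h : θ ⬝ᵥ v = 0), Rat F₀ θ ∧ y = tvGL θ v h}
  one_mem' := ⟨0, by simp, Rat.zero F₀, (tvGL_one_of_zero_left v (by simp)).symm⟩
  mul_mem' := by
    rintro a b ⟨θ, h, hθ, rfl⟩ ⟨θ', h', hθ', rfl⟩
    have h'' : (θ + θ') ⬝ᵥ v = 0 := by rw [add_dotProduct, h, h', add_zero]
    exact ⟨θ + θ', h'', hθ.add hθ', tvGL_mul_same θ θ' v h h' h''⟩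
  inv_mem' := by
    rintro a ⟨θ, h, hθ, rfl⟩
    have h' : (-θ) ⬝ᵥ v = 0 := by rw [neg_dotProduct, h, neg_zero]
    exact ⟨-θ, h', hθ.neg, tvGL_inv θ v h h'⟩

theorem tvGL_mem_UC (F₀ : Subfield F) (θ v : ι → F) (h : θ ⬝ᵥ v = 0) (hθ : Rat F₀ θ) :
    tvGL θ v h ∈ UC F₀ v := ⟨θ, h, hθ, rfl⟩

theorem UC_le_biSub (F₀ : Subfield F) (v u : ι → F) : UC F₀ v ≤ biSub v u := by
  rintro _ ⟨θ, h, -, rfl⟩
  refine ⟨θ, 0, ?_⟩
  rw [tvGL_val]
  unfold tvMat
  simp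

theorem tvGL_mem_biSub (v u ψ : ι → F) (h : ψ ⬝ᵥ u = 0) : tvGL ψ u h ∈ biSub v u := by
  refine ⟨0, ψ, ?_⟩
  rw [tvGL_val]
  unfold tvMat
  simp

theorem tvGL_pow (θ v : ι → F) (h : θ ⬝ᵥ v = 0) (n : ℕ) (hn : ((n : F) • θ) ⬝ᵥ v = 0) :
    tvGL θ v h ^ n = tvGL ((n : F) • θ) v hn := by
  induction n with
  | zero =>
    rw [pow_zero]
    have : ((0 : ℕ) : F) • θ = 0 := by simp
    rw [tvGL_congr _ 0 v v hn (by simp) this rfl, tvGL_one_of_zero_left]
  | succ n ih =>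
    have hn' : ((n : F) • θ) ⬝ᵥ v = 0 := by rw [smul_dotProduct, h, smul_zero]
    rw [pow_succ, ih hn', tvGL_mul_same _ _ _ _ _ (by
      rw [add_dotProduct, hn', h, add_zero])]
    apply tvGL_congr
    · rw [Nat.cast_succ, add_smul, one_smul]
    · rfl

namespace Setup

variable {F₀ : Subfield F} {K : Subgroup (GL ι F)}

/-- (Y3) the stabiliser of the rational point `⟨v⟩` in `Y = K ⊓ biSub v u` is `UC v` -/
theorem stab_le (S : Setup F₀ K) (i₀ : ι) (ψ u : ι → F) (h : ψ ⬝ᵥ u = 0)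
    (hmem : tvGL ψ u h ∈ K) (hu : ¬ Ratline F₀ u) (hψ : ¬ Ratline F₀ ψ)
    (y : GL ι F) (hyK : y ∈ K) (hyB : y ∈ biSub (Pi.single i₀ (1 : F)) u) (lam : F)
    (hlam : (y : Matrix ι ι F) *ᵥ (Pi.single i₀ (1 : F)) = lam • Pi.single i₀ (1 : F)) :
    y ∈ UC F₀ (Pi.single i₀ (1 : F)) := by
  set v : ι → F := Pi.single i₀ 1 with hv
  have hvrat : Rat F₀ v := Rat.single F₀ i₀ F₀.one_mem
  have hv0 : v ≠ 0 := by
    intro h0
    have := congrFun h0 i₀
    simp [hv] at this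
  obtain ⟨f, hh, hy⟩ := hyB
  have hlam0 : lam ≠ 0 := by
    rintro rfl
    rw [zero_smul] at hlam
    have h1 : ((y⁻¹ : GL ι F) : Matrix ι ι F) *ᵥ ((y : Matrix ι ι F) *ᵥ v)
        = ((y⁻¹ : GL ι F) : Matrix ι ι F) *ᵥ 0 := by rw [hlam]
    rw [GL_inv_mulVec_mulVec, Matrix.mulVec_zero] at h1
    exact hv0 h1
  have hinv : ((y⁻¹ : GL ι F) : Matrix ι ι F) *ᵥ v = lam⁻¹ • v := by
    have h1 : lam⁻¹ • (((y⁻¹ : GL ι F) : Matrix ι ι F) *ᵥ ((y : Matrix ι ι F) *ᵥ v))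
        = lam⁻¹ • (((y⁻¹ : GL ι F) : Matrix ι ι F) *ᵥ (lam • v)) := by rw [hlam]
    rw [GL_inv_mulVec_mulVec, Matrix.mulVec_smul, smul_smul, inv_mul_cancel₀ hlam0, one_smul]
      at h1
    exact h1.symm
  have hF1 := S.dot_centre_ne_zero ψ u h hmem hu hψ
  -- step 1
  have step1 : ∀ θ : ι → F, Rat F₀ θ → θ ⬝ᵥ v = 0 →
      Rat F₀ (lam⁻¹ • (θ + (θ ⬝ᵥ u) • hh)) := by
    intro θ hθ hθv
    have ht : tvGL θ v hθv ∈ K := S.rat_tv θ v hθv hθ hvrat
    have h1 : y⁻¹ * tvGL θ v hθv * (y⁻¹)⁻¹ ∈ K :=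
      K.mul_mem (K.mul_mem (K.inv_mem hyK) ht) (K.inv_mem (K.inv_mem hyK))
    have hd : (θ ᵥ* (((y⁻¹)⁻¹ : GL ι F) : Matrix ι ι F)) ⬝ᵥ
        (((y⁻¹ : GL ι F) : Matrix ι ι F) *ᵥ v) = 0 := by
      rw [conj_dot_eq]; exact hθv
    rw [tvGL_conj y⁻¹ θ v hθv hd] at h1
    have e1 : θ ᵥ* (((y⁻¹)⁻¹ : GL ι F) : Matrix ι ι F) = θ + (θ ⬝ᵥ u) • hh := by
      rw [inv_inv, biSub_vecMul hy, hθv, zero_smul, add_zero]
    have hd2 : (θ + (θ ⬝ᵥ u) • hh) ⬝ᵥ (lam⁻¹ • v) = 0 := by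
      rw [← e1, ← hinv]; exact hd
    have h2 : tvGL (θ + (θ ⬝ᵥ u) • hh) (lam⁻¹ • v) hd2 ∈ K := by
      rw [tvGL_congr _ _ _ _ hd2 hd e1.symm hinv.symm]; exact h1
    have hd3 : (lam⁻¹ • (θ + (θ ⬝ᵥ u) • hh)) ⬝ᵥ v = 0 := by
      rw [smul_dotProduct, ← dotProduct_smul]; exact hd2
    rw [tvGL_smul_swap _ v lam⁻¹ hd2 hd3] at h2
    exact S.rat_axis _ v hd3 hvrat hv0 h2
  -- step 2 : hh = 0
  have hh0 : hh = 0 := by
    by_contra hne
    obtain ⟨j, hj⟩ : ∃ j, hh j ≠ 0 := by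
      by_contra hcon
      push Not at hcon
      exact hne (funext hcon)
    obtain ⟨k, hki, hkj⟩ := exists_third S.card3 i₀ j
    obtain ⟨l, hli, hlj, hlk⟩ := exists_fourth S.hcard i₀ j k
    have hsk : (Pi.single k (1 : F) : ι → F) ⬝ᵥ v = 0 := single_dot_single i₀ k hki.symm 1 1
    have hsl : (Pi.single l (1 : F) : ι → F) ⬝ᵥ v = 0 := single_dot_single i₀ l hli.symm 1 1
    have rk := step1 (Pi.single k 1) (Rat.single F₀ k F₀.one_mem) hsk j
    have rl := step1 (Pi.single l 1) (Rat.single F₀ l F₀.one_mem) hsl j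
    simp only [Pi.smul_apply, Pi.add_apply, smul_eq_mul, single_dotProduct, one_mul,
      Pi.single_apply, if_neg hkj.symm, if_neg hlj.symm, zero_add] at rk rl
    have huk : u k ≠ 0 := by
      have := hF1 (Pi.single k 1) (Rat.single F₀ k F₀.one_mem) (by
        intro h0; have := congrFun h0 k; simp at this)
      rwa [single_dotProduct, one_mul] at this
    have hul : u l ≠ 0 := by
      have := hF1 (Pi.single l 1) (Rat.single F₀ l F₀.one_mem) (by
        intro h0; have := congrFun h0 l; simp at this)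
      rwa [single_dotProduct, one_mul] at this
    have hb0 : lam⁻¹ * (u l * hh j) ≠ 0 :=
      mul_ne_zero (inv_ne_zero hlam0) (mul_ne_zero hul hj)
    set c : F := (lam⁻¹ * (u k * hh j)) / (lam⁻¹ * (u l * hh j)) with hc
    have hcF : c ∈ F₀ := F₀.div_mem rk rl
    have hcu : u k = c * u l := by
      rw [hc]
      field_simp
    have hφrat : Rat F₀ ((Pi.single k (1 : F) : ι → F) - c • (Pi.single l (1 : F) : ι → F)) :=
      Rat.sub (Rat.single F₀ k F₀.one_mem) (Rat.smul hcF (Rat.single F₀ l F₀.one_mem))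
    have hφ0 : (Pi.single k (1 : F) : ι → F) - c • (Pi.single l (1 : F) : ι → F) ≠ 0 := by
      intro h0
      have := congrFun h0 k
      simp [hlk.symm] at this
    have := hF1 _ hφrat hφ0
    apply this
    rw [sub_dotProduct, smul_dotProduct, single_dotProduct, single_dotProduct, one_mul, one_mul,
      smul_eq_mul, hcu]
    ring
  -- step 3
  subst hh0
  rw [Matrix.vecMulVec_zero, add_zero] at hy
  have hdet : (y : Matrix ι ι F).det = 1 := by
    have h1 := S.hSL hyK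
    unfold Cfsg.Geo.specialLinear at h1
    rw [MonoidHom.mem_ker] at h1
    have h2 := congrArg Units.val h1
    rwa [Matrix.GeneralLinearGroup.val_det_apply, Units.val_one] at h2
  have hy' : (y : Matrix ι ι F) = tvMat f v := by rw [hy]; rfl
  have hfv : f ⬝ᵥ v = 0 := by
    rw [hy', det_tvMat] at hdet
    linear_combination hdet
  have hyt : y = tvGL f v hfv := Units.ext (by rw [tvGL_val]; exact hy')
  have hfrat : Rat F₀ f := S.rat_axis f v hfv hvrat hv0 (hyt ▸ hyK)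
  exact ⟨f, hfv, hfrat, hyt⟩

end Setup

/-- criterion for a subgroup to be a Frobenius complement inside a larger subgroup -/
theorem isFrobeniusComplement_subgroupOf {G : Type*} [Group G] (Y C : Subgroup G) (hCY : C ≤ Y)
    (hC : C ≠ ⊥) (τ : G) (hτY : τ ∈ Y) (hτC : τ ∉ C)
    (hTI : ∀ g ∈ Y, g ∉ C → ∀ x ∈ C, g * x * g⁻¹ ∈ C → x = 1) :
    Cfsg.IsFrobeniusComplement (C.subgroupOf Y) := by
  refine ⟨?_, ?_, ?_⟩
  · intro h
    apply hC
    rw [Subgroup.subgroupOf_eq_bot] at h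
    exact (disjoint_self.mp (h.mono_right hCY))
  · intro h
    rw [Subgroup.subgroupOf_eq_top] at h
    exact hτC (h hτY)
  · intro g hg
    rw [eq_bot_iff]
    intro z hz
    rw [Subgroup.mem_inf] at hz
    obtain ⟨hz1, hz2⟩ := hz
    rw [Subgroup.mem_bot]
    rw [Subgroup.mem_pointwise_smul_iff_inv_smul_mem, MulAut.smul_def,
      MulAut.conj_inv_apply, Subgroup.mem_subgroupOf] at hz2
    rw [Subgroup.mem_subgroupOf] at hz1
    rw [Subgroup.mem_subgroupOf] at hg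
    have hx : (g : G)⁻¹ * (z : G) * (g : G) ∈ C := by
      simpa using hz2
    have h1 := hTI g g.2 hg _ hx (by
      have : (g : G) * ((g : G)⁻¹ * (z : G) * (g : G)) * (g : G)⁻¹ = z := by group
      rw [this]; exact hz1)
    apply Subtype.ext
    rw [Subgroup.coe_one]
    have : (z : G) = (g : G) * ((g : G)⁻¹ * (z : G) * (g : G)) * (g : G)⁻¹ := by group
    rw [this, h1]
    group

namespace Setup

variable {F₀ : Subfield F} {K : Subgroup (GL ι F)}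

/-- two transvections that agree have proportional centres -/
theorem centre_prop (θ' w θ₂ v : ι → F) (h1 : θ' ⬝ᵥ w = 0) (h2 : θ₂ ⬝ᵥ v = 0) (hθ' : θ' ≠ 0)
    (e : tvGL θ' w h1 = tvGL θ₂ v h2) : ∃ c : F, w = c • v := by
  obtain ⟨j, hj⟩ : ∃ j, θ' j ≠ 0 := by
    by_contra hcon
    push Not at hcon
    exact hθ' (funext hcon)
  have h3 : ((tvGL θ' w h1 : GL ι F) : Matrix ι ι F) *ᵥ (Pi.single j 1)
      = ((tvGL θ₂ v h2 : GL ι F) : Matrix ι ι F) *ᵥ (Pi.single j 1) := by rw [e]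
  rw [tvGL_apply, tvGL_apply, dotProduct_single, dotProduct_single, mul_one, mul_one] at h3
  have h4 : θ' j • w = θ₂ j • v := add_left_cancel h3
  refine ⟨(θ' j)⁻¹ * θ₂ j, ?_⟩
  rw [← smul_smul, ← h4, smul_smul, inv_mul_cancel₀ hj, one_smul]

/-- (P5) `K` contains no transvection whose centre and axis are both irrational -/
theorem no_irrational [Finite F] (S : Setup F₀ K) (ψ u : ι → F) (h : ψ ⬝ᵥ u = 0)
    (hmem : tvGL ψ u h ∈ K) (hu : ¬ Ratline F₀ u) (hψ : ¬ Ratline F₀ ψ) : False := by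
  obtain ⟨i₀, j₀, hij⟩ := S.exists_pair
  obtain ⟨k₀, hk1, hk2⟩ := exists_third S.card3 i₀ j₀
  set v : ι → F := Pi.single i₀ 1 with hv
  have hvrat : Rat F₀ v := Rat.single F₀ i₀ F₀.one_mem
  have hv0 : v ≠ 0 := by
    intro h0
    have := congrFun h0 i₀
    simp [hv] at this
  have hCY : UC F₀ v ≤ K ⊓ biSub v u := by
    apply le_inf
    · rintro _ ⟨θ, hθ, hθr, rfl⟩
      exact S.rat_tv θ v hθ hθr hvrat
    · exact UC_le_biSub F₀ v u
  have hτY : tvGL ψ u h ∈ K ⊓ biSub v u := ⟨hmem, tvGL_mem_biSub v u ψ h⟩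
  have hψ0 : ψ ≠ 0 := ne_zero_of_not_ratline hψ
  have hτC : tvGL ψ u h ∉ UC F₀ v := by
    rintro ⟨θ, hθ, hθr, e⟩
    obtain ⟨c, hc⟩ := centre_prop ψ u θ v h hθ hψ0 e
    apply hu
    by_cases hc0 : c = 0
    · rw [hc, hc0, zero_smul]; exact Ratline.of_rat (Rat.zero F₀)
    · refine ⟨c⁻¹, inv_ne_zero hc0, ?_⟩
      rw [hc, smul_smul, inv_mul_cancel₀ hc0, one_smul]; exact hvrat
  -- the basic transvections
  have hsj : (Pi.single j₀ (1 : F) : ι → F) ⬝ᵥ v = 0 := single_dot_single i₀ j₀ hij 1 1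
  have hCne : UC F₀ v ≠ ⊥ := by
    intro hbot
    have h1 : tvGL (Pi.single j₀ 1) v hsj ∈ UC F₀ v :=
      tvGL_mem_UC F₀ _ v hsj (Rat.single F₀ j₀ F₀.one_mem)
    rw [hbot, Subgroup.mem_bot] at h1
    have h2 : tvGL (Pi.single j₀ 1) v hsj = tvGL 0 v (by simp) := by
      rw [h1, tvGL_one_of_zero_left]
    have h3 := tvGL_axis_inj _ _ v hsj (by simp) hv0 h2
    have := congrFun h3 j₀
    simp at this
  have hTI : ∀ g ∈ K ⊓ biSub v u, g ∉ UC F₀ v → ∀ x ∈ UC F₀ v, g * x * g⁻¹ ∈ UC F₀ v → x = 1 := by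
    rintro g ⟨hgK, hgB⟩ hgC x ⟨θ, hθ, hθr, rfl⟩ ⟨θ₂, hθ₂, hθ₂r, e⟩
    by_contra hne
    have hθ0 : θ ≠ 0 := by
      rintro rfl
      exact hne (tvGL_one_of_zero_left v hθ)
    have hd : (θ ᵥ* ((g⁻¹ : GL ι F) : Matrix ι ι F)) ⬝ᵥ ((g : Matrix ι ι F) *ᵥ v) = 0 := by
      rw [conj_dot_eq]; exact hθ
    rw [tvGL_conj g θ v hθ hd] at e
    have hθ'0 : θ ᵥ* ((g⁻¹ : GL ι F) : Matrix ι ι F) ≠ 0 := by
      intro h0
      apply hθ0
      have : θ = (θ ᵥ* ((g⁻¹ : GL ι F) : Matrix ι ι F)) ᵥ* (g : Matrix ι ι F) := by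
        rw [Matrix.vecMul_vecMul, ← Units.val_mul, inv_mul_cancel, Units.val_one,
          Matrix.vecMul_one]
      rw [this, h0, Matrix.zero_vecMul]
    obtain ⟨c, hc⟩ := centre_prop _ _ θ₂ v hd hθ₂ hθ'0 e
    exact hgC (S.stab_le i₀ ψ u h hmem hu hψ g hgK hgB c hc)
  have hFrob := isFrobeniusComplement_subgroupOf (K ⊓ biSub v u) (UC F₀ v) hCY hCne _ hτY hτC hTI
  -- the characteristic
  obtain ⟨p, hchar⟩ := CharP.exists F
  have := hchar
  have : Fact p.Prime := ⟨CharP.char_is_prime F p⟩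
  have hp0 : (p : F) = 0 := CharP.cast_eq_zero F p
  have hexp : ∀ c ∈ (UC F₀ v).subgroupOf (K ⊓ biSub v u), c ^ p = 1 := by
    intro c hc
    rw [Subgroup.mem_subgroupOf] at hc
    obtain ⟨θ, hθ, hθr, e⟩ := hc
    apply Subtype.ext
    rw [Subgroup.coe_pow, Subgroup.coe_one, e, tvGL_pow θ v hθ p (by
      rw [smul_dotProduct, hθ, smul_zero])]
    rw [tvGL_congr _ 0 v v _ (by simp) (by rw [hp0, zero_smul]) rfl, tvGL_one_of_zero_left]
  have hcard : p < Nat.card ((UC F₀ v).subgroupOf (K ⊓ biSub v u)) := by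
    rw [Nat.card_congr (Subgroup.subgroupOfEquivOfLe hCY).toEquiv]
    have hsk : (Pi.single k₀ (1 : F) : ι → F) ⬝ᵥ v = 0 := single_dot_single i₀ k₀ hk1.symm 1 1
    have hdot : ∀ a b : F, (Pi.single j₀ a + Pi.single k₀ b : ι → F) ⬝ᵥ v = 0 := by
      intro a b
      rw [add_dotProduct, single_dot_single i₀ j₀ hij a 1, single_dot_single i₀ k₀ hk1.symm b 1,
        add_zero]
    let fn : Fin p × Fin p → UC F₀ v := fun ab =>
      ⟨tvGL (Pi.single j₀ ((ab.1 : ℕ) : F) + Pi.single k₀ ((ab.2 : ℕ) : F)) v (hdot _ _),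
        tvGL_mem_UC F₀ _ v _ (Rat.add (Rat.single F₀ j₀ (natCast_mem F₀ _))
          (Rat.single F₀ k₀ (natCast_mem F₀ _)))⟩
    have hinj : Function.Injective fn := by
      rintro ⟨a, b⟩ ⟨a', b'⟩ hab
      have h1 := congrArg Subtype.val hab
      have h2 := tvGL_axis_inj _ _ v (hdot _ _) (hdot _ _) hv0 h1
      have h3 := congrFun h2 j₀
      have h4 := congrFun h2 k₀
      simp only [Pi.add_apply, Pi.single_eq_same, Pi.single_apply, if_neg hk2, if_neg hk2.symm,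
        add_zero, zero_add] at h3 h4
      have h5 := (CharP.natCast_eq_natCast F p).mp h3
      have h6 := (CharP.natCast_eq_natCast F p).mp h4
      have h7 := Nat.ModEq.eq_of_lt_of_lt h5 a.2 a'.2
      have h8 := Nat.ModEq.eq_of_lt_of_lt h6 b.2 b'.2
      exact Prod.ext (Fin.ext h7) (Fin.ext h8)
    have h1 := Nat.card_le_card_of_injective fn hinj
    rw [Nat.card_prod, Nat.card_eq_fintype_card, Fintype.card_fin] at h1
    have hp2 : 2 ≤ p := (Fact.out : p.Prime).two_le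
    nlinarith
  exact no_elementary_frobenius_complement _ hFrob p hexp hcard

end Setup

end Cfsg.Agent.Lib.Helper48.Subfield
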