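import Mathlib
import Cfsg.Prelude.Def_GeometricClasses
import Cfsg.Agent.Lib.Helper48.Subfield.Frob

set_option autoImplicit false
set_option linter.unusedSectionVars false

/-! Maximality of the subfield subgroup of `SL_n(F)` for a subfield of prime index. -/

namespace Cfsg.Agent.Lib.Helper48.Subfield

open scoped MatrixGroups Matrix
open Cfsg.Agent.Lib.Helper95

variable {ι : Type} [Fintype ι] [DecidableEq ι] {F : Type*} [Field F]

/-- coefficients of a rational combination of two independent rational vectors are rational -/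
theorem rat_coeffs {F₀ : Subfield F} {x y : ι → F} (hx : Rat F₀ x) (hy : Rat F₀ y) (α β : F)
    (hz : Rat F₀ (α • x + β • y))
    (hind : ∀ a b : F, a • x + b • y = 0 → a = 0 ∧ b = 0) : α ∈ F₀ ∧ β ∈ F₀ := by
  obtain ⟨k, hk⟩ : ∃ k, x k ≠ 0 := by
    by_contra hcon
    push Not at hcon
    have hx0 : x = 0 := funext hcon
    have := (hind 1 0 (by rw [hx0]; simp)).1
    exact one_ne_zero this
  obtain ⟨l, hl⟩ : ∃ l, x k * y l - x l * y k ≠ 0 := by
    by_contra hcon
    push Not at hcon
    have h1 : (-(y k)) • x + (x k) • y = 0 := by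
      funext l
      have := hcon l
      simp only [Pi.add_apply, Pi.smul_apply, smul_eq_mul, Pi.zero_apply]
      linear_combination this
    exact hk (hind _ _ h1).2
  have hzk := hz k
  have hzl := hz l
  simp only [Pi.add_apply, Pi.smul_apply, smul_eq_mul] at hzk hzl
  set D := x k * y l - x l * y k with hD
  have hDF : D ∈ F₀ := F₀.sub_mem (F₀.mul_mem (hx k) (hy l)) (F₀.mul_mem (hx l) (hy k))
  constructor
  · have h1 : α = ((α * x k + β * y k) * y l - (α * x l + β * y l) * y k) / D := by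
      rw [eq_div_iff hl, hD]; ring
    rw [h1]
    exact F₀.div_mem (F₀.sub_mem (F₀.mul_mem hzk (hy l)) (F₀.mul_mem hzl (hy k))) hDF
  · have h1 : β = (x k * (α * x l + β * y l) - x l * (α * x k + β * y k)) / D := by
      rw [eq_div_iff hl, hD]; ring
    rw [h1]
    exact F₀.div_mem (F₀.sub_mem (F₀.mul_mem (hx k) hzl) (F₀.mul_mem (hx l) hzk)) hDF

namespace Setup

variable {F₀ : Subfield F} {K : Subgroup (GL ι F)}

/-- every element of `K` maps rational points to rational points -/
theorem maps_rat_to_ratline [Finite F] (S : Setup F₀ K) (g : GL ι F) (hg : g ∈ K) (w : ι → F)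
    (hw : Rat F₀ w) (hw0 : w ≠ 0) : Ratline F₀ ((g : Matrix ι ι F) *ᵥ w) := by
  obtain ⟨k, hk⟩ : ∃ k, w k ≠ 0 := by
    by_contra hcon
    push Not at hcon
    exact hw0 (funext hcon)
  obtain ⟨j, hjk, -⟩ := exists_third S.card3 k k
  set θ : ι → F := w k • (Pi.single j 1 : ι → F) - w j • (Pi.single k 1 : ι → F) with hθ
  have hθr : Rat F₀ θ :=
    Rat.sub (Rat.smul (hw k) (Rat.single F₀ j F₀.one_mem))
      (Rat.smul (hw j) (Rat.single F₀ k F₀.one_mem))
  have hθw : θ ⬝ᵥ w = 0 := by
    rw [hθ, sub_dotProduct, smul_dotProduct, smul_dotProduct, single_dotProduct,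
      single_dotProduct]
    simp only [smul_eq_mul, one_mul]
    ring
  have hθ0 : θ ≠ 0 := by
    intro h0
    have := congrFun h0 j
    simp [hθ, hjk, hk] at this
  have ht : tvGL θ w hθw ∈ K := S.rat_tv θ w hθw hθr hw
  have hd : (θ ᵥ* ((g⁻¹ : GL ι F) : Matrix ι ι F)) ⬝ᵥ ((g : Matrix ι ι F) *ᵥ w) = 0 := by
    rw [conj_dot_eq]; exact hθw
  have h1 : g * tvGL θ w hθw * g⁻¹ ∈ K := K.mul_mem (K.mul_mem hg ht) (K.inv_mem hg)
  rw [tvGL_conj g θ w hθw hd] at h1
  by_contra hnot
  by_cases hax : Ratline F₀ (θ ᵥ* ((g⁻¹ : GL ι F) : Matrix ι ι F))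
  · obtain ⟨c, hc0, hc⟩ := hax
    set θ' : ι → F := θ ᵥ* ((g⁻¹ : GL ι F) : Matrix ι ι F) with hθ'
    have hθ'0 : θ' ≠ 0 := by
      intro h0
      apply hθ0
      have : θ = θ' ᵥ* (g : Matrix ι ι F) := by
        rw [hθ', Matrix.vecMul_vecMul, ← Units.val_mul, inv_mul_cancel, Units.val_one,
          Matrix.vecMul_one]
      rw [this, h0, Matrix.zero_vecMul]
    have hcθ0 : c • θ' ≠ 0 := by
      intro h0
      apply hθ'0
      have := congrArg (fun x => c⁻¹ • x) h0
      simpa [smul_smul, inv_mul_cancel₀ hc0] using this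
    have e : (g : Matrix ι ι F) *ᵥ w = c • (c⁻¹ • ((g : Matrix ι ι F) *ᵥ w)) := by
      rw [smul_smul, mul_inv_cancel₀ hc0, one_smul]
    have hd2 : θ' ⬝ᵥ (c • (c⁻¹ • ((g : Matrix ι ι F) *ᵥ w))) = 0 := by rw [← e]; exact hd
    have hd3 : (c • θ') ⬝ᵥ (c⁻¹ • ((g : Matrix ι ι F) *ᵥ w)) = 0 := by
      rw [smul_dotProduct, ← dotProduct_smul]; exact hd2
    have h2 : tvGL (c • θ') (c⁻¹ • ((g : Matrix ι ι F) *ᵥ w)) hd3 ∈ K := by
      rw [← tvGL_smul_swap θ' _ c hd2 hd3, tvGL_congr _ _ _ _ hd2 hd rfl e.symm]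
      exact h1
    exact hnot ⟨c⁻¹, inv_ne_zero hc0, S.rat_centre _ _ hd3 hc hcθ0 h2⟩
  · exact S.no_irrational _ _ hd h1 hnot hax

/-- `K` lies in the group of matrices that are rational up to a scalar -/
theorem le_ratUpTo [Finite F] (S : Setup F₀ K) : K ≤ ratUpTo (ι := ι) F₀ := by
  intro g hg
  obtain ⟨i₀, -, -⟩ := S.exists_pair
  have hcol : ∀ j : ι, Ratline F₀ ((g : Matrix ι ι F) *ᵥ (Pi.single j 1)) := by
    intro j
    apply S.maps_rat_to_ratline g hg _ (Rat.single F₀ j F₀.one_mem)
    intro h0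
    have := congrFun h0 j
    simp at this
  choose a ha0 ha using hcol
  have hinj : ∀ x : ι → F, (g : Matrix ι ι F) *ᵥ x = 0 → x = 0 := by
    intro x hx
    have := GL_inv_mulVec_mulVec g x
    rw [hx, Matrix.mulVec_zero] at this
    exact this.symm
  have key : ∀ j : ι, Rat F₀ (a i₀ • ((g : Matrix ι ι F) *ᵥ (Pi.single j 1))) := by
    intro j
    by_cases hj : j = i₀
    · subst hj; exact ha j
    · have hsum : Ratline F₀ ((g : Matrix ι ι F) *ᵥ (Pi.single i₀ 1 + Pi.single j 1)) := by
        apply S.maps_rat_to_ratline g hg _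
          (Rat.add (Rat.single F₀ i₀ F₀.one_mem) (Rat.single F₀ j F₀.one_mem))
        intro h0
        have := congrFun h0 j
        simp [hj] at this
      obtain ⟨b, hb0, hb⟩ := hsum
      set x : ι → F := a i₀ • ((g : Matrix ι ι F) *ᵥ (Pi.single i₀ 1)) with hx
      set y : ι → F := a j • ((g : Matrix ι ι F) *ᵥ (Pi.single j 1)) with hy
      have hz : b • ((g : Matrix ι ι F) *ᵥ (Pi.single i₀ 1 + Pi.single j 1))
          = (b / a i₀) • x + (b / a j) • y := by
        rw [hx, hy, smul_smul, smul_smul, div_mul_cancel₀ _ (ha0 i₀), div_mul_cancel₀ _ (ha0 j),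
          Matrix.mulVec_add, smul_add]
      rw [hz] at hb
      have hind : ∀ c d : F, c • x + d • y = 0 → c = 0 ∧ d = 0 := by
        intro c d hcd
        have h1 : (g : Matrix ι ι F) *ᵥ ((c * a i₀) • (Pi.single i₀ 1 : ι → F)
            + (d * a j) • (Pi.single j 1 : ι → F)) = 0 := by
          rw [Matrix.mulVec_add, Matrix.mulVec_smul, Matrix.mulVec_smul, ← smul_smul, ← smul_smul]
          exact hcd
        have h2 := hinj _ h1
        have h3 := congrFun h2 i₀
        have h4 := congrFun h2 j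
        have hij' : ¬ (i₀ = j) := fun h => hj h.symm
        simp [hj, hij'] at h3 h4
        constructor
        · rcases h3 with h | h
          · exact h
          · exact absurd h (ha0 i₀)
        · rcases h4 with h | h
          · exact h
          · exact absurd h (ha0 j)
      obtain ⟨hα, hβ⟩ := rat_coeffs (ha i₀) (ha j) _ _ hb hind
      have e : a i₀ • ((g : Matrix ι ι F) *ᵥ (Pi.single j 1))
          = ((b / a j) / (b / a i₀)) • y := by
        rw [hy, smul_smul]
        congr 1
        have := ha0 i₀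
        have := ha0 j
        field_simp
      rw [e]
      exact Rat.smul (F₀.div_mem hβ hα) (ha j)
  refine ⟨a i₀, ha0 i₀, ?_⟩
  intro i j
  have := key j i
  simpa [Matrix.mulVec_single_one] using this

end Setup

/-- the subfield subgroup (without conjugation) is maximal in `SL` -/
theorem maximal_P1 [Fintype F] (F₀ : Subfield F) (hcard : 4 ≤ Fintype.card ι) (r : ℕ)
    (hr : r.Prime) (hF : Fintype.card F = Nat.card F₀ ^ r) :
    Cfsg.Geo.IsMaximalIn (Cfsg.Geo.specialLinear ι F)
      ((G0 (ι := ι) F₀ ⊔ Cfsg.Geo.scalars ι F) ⊓ Cfsg.Geo.specialLinear ι F) := by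
  constructor
  · refine lt_of_le_of_ne inf_le_right ?_
    intro heq
    obtain ⟨a, ha⟩ : ∃ a : F, a ∉ F₀ := by
      by_contra hcon
      push Not at hcon
      have h1 : Nat.card F₀ = Fintype.card F := by
        rw [← Nat.card_eq_fintype_card]
        exact Nat.card_congr ⟨fun x => x.1, fun x => ⟨x, hcon x⟩, fun _ => rfl, fun _ => rfl⟩
      rw [h1] at hF
      have hq : 2 ≤ Fintype.card F := Fintype.one_lt_card
      have hr2 := hr.two_le
      have h2 : Fintype.card F ^ 1 < Fintype.card F ^ r := Nat.pow_lt_pow_right hq (by omega)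
      rw [pow_one] at h2
      omega
    obtain ⟨i₀, j₀, hij⟩ : ∃ i j : ι, i ≠ j := by
      apply Fintype.exists_pair_of_one_lt_card
      omega
    have hmem : elemT i₀ j₀ hij a ∈ Cfsg.Geo.specialLinear ι F := tvGL_mem_specialLinear _ _ _
    rw [← heq, sup_eq_ratUpTo] at hmem
    obtain ⟨c, hc0, hc⟩ := hmem.1
    have h1 := hc i₀ i₀
    have h2 := hc i₀ j₀
    rw [elemT_val] at h1 h2
    simp only [Matrix.smul_apply, Matrix.add_apply, Matrix.one_apply_eq, Matrix.one_apply_ne hij,
      Matrix.single_apply, smul_eq_mul] at h1 h2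
    simp only [hij.symm, and_false, and_self, if_false, if_true, add_zero, zero_add, mul_one] at h1 h2
    apply ha
    have := F₀.div_mem h2 h1
    rwa [mul_div_cancel_left₀ _ hc0] at this
  · intro M hHM hMS
    have hK : ∀ (φ v : ι → F) (h : φ ⬝ᵥ v = 0), Rat F₀ φ → Rat F₀ v → tvGL φ v h ∈ M :=
      fun φ v h hφ hv => hHM ⟨Subgroup.mem_sup_left (tvGL_mem_G0 φ v h hφ hv),
        tvGL_mem_specialLinear φ v h⟩
    rcases coeffSet_dichotomy (K := M) (by omega) hK r hr hF with hA | hA
    · left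
      have S : Setup F₀ M :=
        ⟨hcard, fun g hg hgS => hHM ⟨Subgroup.mem_sup_left hg, hgS⟩, hMS, hA⟩
      refine le_antisymm (le_inf ?_ hMS) hHM
      rw [sup_eq_ratUpTo]
      exact S.le_ratUpTo
    · right
      exact le_antisymm hMS (specialLinear_le_of_coeffSet hA)

/-- a normal subgroup is fixed by conjugation -/
theorem map_conj_eq_of_normal {G : Type*} [Group G] (S : Subgroup G) [hS : S.Normal] (P : G) :
    S.map (MulAut.conj P).toMonoidHom = S := by
  ext x
  constructor
  · rintro ⟨y, hy, rfl⟩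
    exact hS.conj_mem y hy P
  · intro hx
    refine ⟨P⁻¹ * x * P, ?_, ?_⟩
    · have := hS.conj_mem x hx P⁻¹
      simpa using this
    · simp [MulAut.conj_apply, mul_assoc]

/-- maximality is preserved by conjugation -/
theorem isMaximalIn_map_conj {G : Type*} [Group G] (S H : Subgroup G) [hS : S.Normal] (P : G)
    (h : Cfsg.Geo.IsMaximalIn S H) :
    Cfsg.Geo.IsMaximalIn S (H.map (MulAut.conj P).toMonoidHom) := by
  have hinj : Function.Injective (MulAut.conj P).toMonoidHom := (MulAut.conj P).injective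
  have hsurj : Function.Surjective (MulAut.conj P).toMonoidHom := (MulAut.conj P).surjective
  have hSmap := map_conj_eq_of_normal S P
  constructor
  · have := (Subgroup.map_lt_map_iff_of_injective hinj).mpr h.1
    rwa [hSmap] at this
  · intro M hHM hMS
    have h1 : H ≤ M.comap (MulAut.conj P).toMonoidHom := Subgroup.map_le_iff_le_comap.mp hHM
    have h2 : M.comap (MulAut.conj P).toMonoidHom ≤ S := by
      have : M.comap (MulAut.conj P).toMonoidHom
          ≤ (S.map (MulAut.conj P).toMonoidHom).comap (MulAut.conj P).toMonoidHom :=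
        Subgroup.comap_mono (hSmap.symm ▸ hMS)
      rwa [Subgroup.comap_map_eq_self_of_injective hinj] at this
    have h3 : M = (M.comap (MulAut.conj P).toMonoidHom).map (MulAut.conj P).toMonoidHom :=
      (Subgroup.map_comap_eq_self_of_surjective hsurj M).symm
    rcases h.2 _ h1 h2 with h4 | h4
    · left; rw [h3, h4]
    · right; rw [h3, h4, hSmap]

/-- the subfield subgroup is maximal in `SL` -/
theorem maximal_main [Fintype F] (F₀ : Subfield F) (hcard : 4 ≤ Fintype.card ι) (r : ℕ)
    (hr : r.Prime) (hF : Fintype.card F = Nat.card F₀ ^ r) (P : GL ι F) :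
    Cfsg.Geo.IsMaximalIn (Cfsg.Geo.specialLinear ι F)
      (Cfsg.Geo.subfieldSubgroup F₀ P ⊓ Cfsg.Geo.specialLinear ι F) := by
  have hS : (Cfsg.Geo.specialLinear ι F).Normal := by
    unfold Cfsg.Geo.specialLinear
    infer_instance
  have hinj : Function.Injective (MulAut.conj P).toMonoidHom := (MulAut.conj P).injective
  have h1 := isMaximalIn_map_conj _ _ P (maximal_P1 (ι := ι) F₀ hcard r hr hF)
  rw [Subgroup.map_inf _ _ _ hinj, map_conj_eq_of_normal (Cfsg.Geo.specialLinear ι F) P] at h1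
  exact h1

end Cfsg.Agent.Lib.Helper48.Subfield
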